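import Mathlib
import Groth.Agent.RingPO.Props
import Groth.Agent.RingPO.Recognize
import Groth.Agent.RingPO.Tensor

universe u
set_option autoImplicit false
open AlgebraicGeometry CategoryTheory CategoryTheory.Limits TopologicalSpace Opposite TensorProduct

namespace RingPO

variable {X Y Z P : Scheme.{u}} {i : Z ⟶ X} {j : Z ⟶ Y} {a : X ⟶ P} {b : Y ⟶ P} [IsClosedImmersion i]

/-- The chart over an affine open of the pushout. -/
noncomputable def chartOver (h : IsPushout i j a b) [IsAffineHom a] [IsAffineHom b] {U : P.Opens}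
    (hU : IsAffineOpen U) : Chart i j :=
  ⟨a ⁻¹ᵁ U, b ⁻¹ᵁ U, hU.preimage a, hU.preimage b, by
    rw [← Scheme.Hom.comp_preimage, ← Scheme.Hom.comp_preimage, h.w]⟩

/-- An affine open of the pushout is the spectrum of the fibre product of the rings of the pieces. -/
theorem isFibreProd_of_affineOpen (h : IsPushout i j a b) (hY : ∀ y : Y, ∃ c : Chart i j, y ∈ c.V)
    [IsAffineHom a] [IsAffineHom b] {U : P.Opens} (hU : IsAffineOpen U) :
    IsFibreProd (chartOver h hU).p (chartOver h hU).q (a.appLE U (a ⁻¹ᵁ U) le_rfl).hom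
      (b.appLE U (b ⁻¹ᵁ U) le_rfl).hom := by
  set c := chartOver h hU
  obtain ⟨φ, hφ, hcov, h1, h2, h3, h4⟩ := exists_fibreProd_chart h hY
  haveI := hφ
  have hcU : (c.U : Set X) = a ⁻¹' U := rfl
  have hcV : (c.V : Set Y) = b ⁻¹' U := rfl
  have hr : Set.range (φ c) = (U : Set P) := by
    refine subset_antisymm ?_ fun x hx => ?_
    · rintro _ ⟨z, rfl⟩
      rcases c.isFibreProd.exists_preimage z with ⟨y, rfl⟩ | ⟨y, rfl⟩
      · rw [show φ c (PrimeSpectrum.comap c.β y) = b (c.hV.fromSpec y) from (congr($(h2 c) y)).symm]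
        exact c.hV.range_fromSpec.le ⟨y, rfl⟩
      · rw [show φ c (PrimeSpectrum.comap c.α y) = a (c.hU.fromSpec y) from (congr($(h1 c) y)).symm]
        exact c.hU.range_fromSpec.le ⟨y, rfl⟩
    · obtain ⟨d, z, rfl⟩ := hcov x
      rcases d.isFibreProd.exists_preimage z with ⟨y, rfl⟩ | ⟨y, rfl⟩
      · rw [show φ d (PrimeSpectrum.comap d.β y) = b (d.hV.fromSpec y) from (congr($(h2 d) y)).symm] at hx ⊢
        exact (h4 c).ge hx
      · rw [show φ d (PrimeSpectrum.comap d.α y) = a (d.hU.fromSpec y) from (congr($(h1 d) y)).symm] at hx ⊢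
        exact (h3 c).ge hx
  let σ : Γ(P, U) →+* c.sub := ((a.appLE U (a ⁻¹ᵁ U) le_rfl).hom.prod (b.appLE U (b ⁻¹ᵁ U) le_rfl).hom).codRestrict
    c.sub (fun z => by
      show (a.appLE U (a ⁻¹ᵁ U) le_rfl ≫ i.appLE (a ⁻¹ᵁ U) (i ⁻¹ᵁ c.U) le_rfl) z =
        (b.appLE U (b ⁻¹ᵁ U) le_rfl ≫ j.appLE (b ⁻¹ᵁ U) (i ⁻¹ᵁ c.U) c.eq.le) z
      rw [Scheme.Hom.appLE_comp_appLE, Scheme.Hom.appLE_comp_appLE]
      simp only [h.w])
  have e : Spec.map (CommRingCat.ofHom σ) ≫ hU.fromSpec = φ c := by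
    refine c.isFibreProd.hom_ext ?_ ?_
    · rw [← h1 c, ← Spec.map_comp_assoc]
      exact hU.SpecMap_appLE_fromSpec a c.hU le_rfl
    · rw [← h2 c, ← Spec.map_comp_assoc]
      exact hU.SpecMap_appLE_fromSpec b c.hV le_rfl
  haveI : IsIso (Spec.map (CommRingCat.ofHom σ)) := by
    haveI : IsOpenImmersion (Spec.map (CommRingCat.ofHom σ) ≫ hU.fromSpec) := by rw [e]; infer_instance
    haveI : IsOpenImmersion (Spec.map (CommRingCat.ofHom σ)) := IsOpenImmersion.of_comp _ hU.fromSpec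
    haveI : Epi (Spec.map (CommRingCat.ofHom σ)).base := by
      rw [TopCat.epi_iff_surjective]
      intro z
      obtain ⟨w, hw⟩ : hU.fromSpec z ∈ Set.range (φ c) := by
        rw [hr]; exact hU.range_fromSpec.le ⟨z, rfl⟩
      refine ⟨w, hU.fromSpec.isOpenEmbedding.injective ?_⟩
      rw [← e] at hw; exact hw
    exact IsOpenImmersion.isIso _
  have hσ : Function.Bijective σ := isIso_SpecMap_iff.mp ‹IsIso (Spec.map (CommRingCat.ofHom σ))›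
  refine ⟨c.isFibreProd.surj, fun z => (σ z).2, fun z z' hz hz' => hσ.1 (Subtype.ext (Prod.ext hz hz')),
    fun y x hxy => ?_⟩
  obtain ⟨z, hz⟩ := hσ.2 ⟨(x, y), hxy⟩
  exact ⟨z, congrArg (fun w : c.sub => w.1.1) hz, congrArg (fun w : c.sub => w.1.2) hz⟩

theorem isPullback_fromSpec {W S : Scheme.{u}} (f : W ⟶ S) [IsAffineHom f] {U : S.Opens} (hU : IsAffineOpen U) :
    IsPullback (hU.preimage f).fromSpec (Spec.map (f.appLE U (f ⁻¹ᵁ U) le_rfl)) f hU.fromSpec :=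
  isPullback_chart (hU.SpecMap_appLE_fromSpec f (hU.preimage f) le_rfl).symm (by
    rw [hU.range_fromSpec, (hU.preimage f).range_fromSpec]; rfl)

theorem isPullback_specTensor {R C A R' : Type u} [CommRing R] [CommRing C] [CommRing A] [CommRing R']
    [Algebra R C] [Algebra R A] [Algebra R R'] (f : C →ₐ[R] A) :
    IsPullback (Spec.map (CommRingCat.ofHom (Algebra.TensorProduct.includeLeftRingHom : A →+* A ⊗[R] R')))
      (Spec.map (CommRingCat.ofHom (Algebra.TensorProduct.map f (AlgHom.id R R')).toRingHom))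
      (Spec.map (CommRingCat.ofHom f.toRingHom))
      (Spec.map (CommRingCat.ofHom (Algebra.TensorProduct.includeLeftRingHom : C →+* C ⊗[R] R'))) := by
  have hbig := CommRingCat.isPushout_tensorProduct R A R'
  have hl := CommRingCat.isPushout_tensorProduct R C R'
  have e1 : CommRingCat.ofHom (algebraMap R A) = CommRingCat.ofHom (algebraMap R C) ≫ CommRingCat.ofHom f.toRingHom :=
    CommRingCat.hom_ext f.comp_algebraMap.symm
  have e2 : CommRingCat.ofHom (Algebra.TensorProduct.includeRight : R' →ₐ[R] A ⊗[R] R').toRingHom =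
      CommRingCat.ofHom (Algebra.TensorProduct.includeRight : R' →ₐ[R] C ⊗[R] R').toRingHom ≫
        CommRingCat.ofHom (Algebra.TensorProduct.map f (AlgHom.id R R')).toRingHom := by
    refine CommRingCat.hom_ext (RingHom.ext fun r => ?_)
    show (1 : A) ⊗ₜ[R] r = f 1 ⊗ₜ[R] r
    rw [map_one]
  rw [e1, e2] at hbig
  exact isPullback_SpecMap_of_isPushout _ _ _ _ (IsPushout.of_left hbig (by
    ext z
    show f z ⊗ₜ[R] (1 : R') = f z ⊗ₜ[R] (1 : R')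
    rfl) hl)

/-- Over every pair of affine opens the map on sections of `Y → Z` is injective with flat cokernel. -/
def CokerFlat (h : IsPushout i j a b) [IsAffineHom a] [IsAffineHom b] {S : Scheme.{u}} (sP : P ⟶ S) : Prop :=
  ∀ (Sa : S.Opens) (U : P.Opens) (_ : IsAffineOpen Sa) (hU : IsAffineOpen U) (eS : U ≤ sP ⁻¹ᵁ Sa),
    Function.Injective (chartOver h hU).q ∧
      (letI := ((chartOver h hU).p.comp ((a.appLE U (a ⁻¹ᵁ U) le_rfl).hom.comp (sP.appLE Sa U eS).hom)).toAlgebra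
       Module.Flat Γ(S, Sa) (Γ(Z, i ⁻¹ᵁ a ⁻¹ᵁ U) ⧸ Submodule.span Γ(S, Sa) (Set.range (chartOver h hU).q)))

/-- Base change of a pushout along a closed immersion with affine legs: flat or universally injective case. -/
theorem isPushout_baseChange_core (h : IsPushout i j a b) (hY : ∀ y : Y, ∃ c : Chart i j, y ∈ c.V) [IsAffineHom a]
    [IsAffineHom b]
    {S T PT XT YT ZT : Scheme.{u}} (sP : P ⟶ S) (g : T ⟶ S) (hf : (Flat ((i ≫ a) ≫ sP) ∨ Flat g) ∨ CokerFlat h sP)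
    {pP : PT ⟶ P} {sT : PT ⟶ T} (hPT : IsPullback pP sT sP g)
    {pX : XT ⟶ X} {aT : XT ⟶ PT} (hXT : IsPullback pX aT a pP)
    {pY : YT ⟶ Y} {bT : YT ⟶ PT} (hYT : IsPullback pY bT b pP)
    {pZ : ZT ⟶ Z} {iT : ZT ⟶ XT} (hZT : IsPullback pZ iT i pX)
    {jT : ZT ⟶ YT} (hj₁ : jT ≫ pY = pZ ≫ j) (hj₂ : iT ≫ aT = jT ≫ bT) : IsPushout iT jT aT bT := by
  have key : ∀ x : PT, ∃ M : Model iT jT aT bT, x ∈ Set.range M.φ := by
    intro x
    obtain ⟨Sa, hSa, hxS, -⟩ := exists_isAffineOpen_mem_and_subset (x := sP (pP x)) (U := (⊤ : S.Opens)) (by simp)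
    obtain ⟨U, hU, hxU, hUs⟩ := exists_isAffineOpen_mem_and_subset (x := pP x) (U := sP ⁻¹ᵁ Sa) hxS
    have eS : U ≤ sP ⁻¹ᵁ Sa := hUs
    have hgx : g (sT x) = sP (pP x) := congr($(hPT.w) x).symm
    obtain ⟨Ta, hTa, hxT, hTs⟩ := exists_isAffineOpen_mem_and_subset (x := sT x) (U := g ⁻¹ᵁ Sa)
      (show g (sT x) ∈ Sa by rw [hgx]; exact hxS)
    have eT : Ta ≤ g ⁻¹ᵁ Sa := hTs
    set c := chartOver h hU
    have hF := isFibreProd_of_affineOpen h hY hU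
    letI : Algebra Γ(S, Sa) Γ(P, U) := (sP.appLE Sa U eS).hom.toAlgebra
    letI : Algebra Γ(S, Sa) Γ(T, Ta) := (g.appLE Sa Ta eT).hom.toAlgebra
    letI : Algebra Γ(S, Sa) Γ(X, a ⁻¹ᵁ U) := ((a.appLE U (a ⁻¹ᵁ U) le_rfl).hom.comp (sP.appLE Sa U eS).hom).toAlgebra
    letI : Algebra Γ(S, Sa) Γ(Y, b ⁻¹ᵁ U) := ((b.appLE U (b ⁻¹ᵁ U) le_rfl).hom.comp (sP.appLE Sa U eS).hom).toAlgebra
    letI : Algebra Γ(S, Sa) Γ(Z, i ⁻¹ᵁ a ⁻¹ᵁ U) :=
      (c.p.comp ((a.appLE U (a ⁻¹ᵁ U) le_rfl).hom.comp (sP.appLE Sa U eS).hom)).toAlgebra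
    let α : Γ(P, U) →ₐ[Γ(S, Sa)] Γ(X, a ⁻¹ᵁ U) := { (a.appLE U (a ⁻¹ᵁ U) le_rfl).hom with commutes' := fun _ => rfl }
    let β : Γ(P, U) →ₐ[Γ(S, Sa)] Γ(Y, b ⁻¹ᵁ U) := { (b.appLE U (b ⁻¹ᵁ U) le_rfl).hom with commutes' := fun _ => rfl }
    let p : Γ(X, a ⁻¹ᵁ U) →ₐ[Γ(S, Sa)] Γ(Z, i ⁻¹ᵁ a ⁻¹ᵁ U) := { c.p with commutes' := fun _ => rfl }
    let q : Γ(Y, b ⁻¹ᵁ U) →ₐ[Γ(S, Sa)] Γ(Z, i ⁻¹ᵁ a ⁻¹ᵁ U) := { c.q with commutes' := fun r => (hF.comm _).symm }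
    have hF' : IsFibreProd p.toRingHom q.toRingHom α.toRingHom β.toRingHom := hF
    have hM : IsFibreProd (Algebra.TensorProduct.map p (AlgHom.id Γ(S, Sa) Γ(T, Ta))).toRingHom
        (Algebra.TensorProduct.map q (AlgHom.id Γ(S, Sa) Γ(T, Ta))).toRingHom
        (Algebra.TensorProduct.map α (AlgHom.id Γ(S, Sa) Γ(T, Ta))).toRingHom
        (Algebra.TensorProduct.map β (AlgHom.id Γ(S, Sa) Γ(T, Ta))).toRingHom := by
      rcases hf with hf | hf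
      · refine hF'.tensor Γ(T, Ta) ?_
        rcases hf with hf | hf
        · left
          have he : i ⁻¹ᵁ c.U ≤ ((i ≫ a) ≫ sP) ⁻¹ᵁ Sa := fun z hz => eS hz
          have h1 : (((i ≫ a) ≫ sP).appLE Sa (i ⁻¹ᵁ c.U) he).hom.Flat :=
            HasRingHomProperty.appLE @Flat _ hf ⟨Sa, hSa⟩ ⟨_, c.hU.preimage i⟩ he
          have h2 : (((i ≫ a) ≫ sP).appLE Sa (i ⁻¹ᵁ c.U) he) =
              sP.appLE Sa U eS ≫ a.appLE U (a ⁻¹ᵁ U) le_rfl ≫ i.appLE (a ⁻¹ᵁ U) (i ⁻¹ᵁ c.U) le_rfl := by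
            rw [Scheme.Hom.appLE_comp_appLE, Scheme.Hom.appLE_comp_appLE]
          rw [h2] at h1
          exact h1
        · right
          exact (HasRingHomProperty.appLE @Flat _ hf ⟨Sa, hSa⟩ ⟨_, hTa⟩ eT : (g.appLE Sa Ta eT).hom.Flat)
      · exact hF'.tensor_of_coker Γ(T, Ta) (hf Sa U hSa hU eS).1 (hf Sa U hSa hU eS).2
    let iC : Γ(P, U) →+* Γ(P, U) ⊗[Γ(S, Sa)] Γ(T, Ta) := Algebra.TensorProduct.includeLeftRingHom
    let iT' : Γ(T, Ta) →+* Γ(P, U) ⊗[Γ(S, Sa)] Γ(T, Ta) :=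
      (Algebra.TensorProduct.includeRight : Γ(T, Ta) →ₐ[Γ(S, Sa)] Γ(P, U) ⊗[Γ(S, Sa)] Γ(T, Ta)).toRingHom
    have hsq : IsPullback (Spec.map (CommRingCat.ofHom iC)) (Spec.map (CommRingCat.ofHom iT'))
        (Spec.map (sP.appLE Sa U eS)) (Spec.map (g.appLE Sa Ta eT)) :=
      isPullback_SpecMap_of_isPushout _ _ _ _ (CommRingCat.isPushout_tensorProduct Γ(S, Sa) Γ(P, U) Γ(T, Ta))
    let m := pullback.map (Spec.map (sP.appLE Sa U eS)) (Spec.map (g.appLE Sa Ta eT)) sP g hU.fromSpec hTa.fromSpec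
      hSa.fromSpec (hSa.SpecMap_appLE_fromSpec sP hU eS) (hSa.SpecMap_appLE_fromSpec g hTa eT)
    let φ : Spec (CommRingCat.of (Γ(P, U) ⊗[Γ(S, Sa)] Γ(T, Ta))) ⟶ PT := hsq.isoPullback.hom ≫ m ≫ hPT.isoPullback.inv
    have hφP : φ ≫ pP = Spec.map (CommRingCat.ofHom iC) ≫ hU.fromSpec := by
      simp only [φ, m, Category.assoc, IsPullback.isoPullback_inv_fst, pullback.lift_fst,
        IsPullback.isoPullback_hom_fst_assoc]
    have mkLeg : ∀ {W : Scheme.{u}} {WT : Scheme.{u}} {f : W ⟶ P} {pW : WT ⟶ W} {fT : WT ⟶ PT}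
        (hWT : IsPullback pW fT f pP) [IsAffineHom f] [Algebra Γ(S, Sa) Γ(W, f ⁻¹ᵁ U)]
        (F : Γ(P, U) →ₐ[Γ(S, Sa)] Γ(W, f ⁻¹ᵁ U)), F.toRingHom = (f.appLE U (f ⁻¹ᵁ U) le_rfl).hom →
        ∃ u : Spec (CommRingCat.of (Γ(W, f ⁻¹ᵁ U) ⊗[Γ(S, Sa)] Γ(T, Ta))) ⟶ WT,
          u ≫ pW = Spec.map (CommRingCat.ofHom Algebra.TensorProduct.includeLeftRingHom) ≫ (hU.preimage f).fromSpec ∧
          IsPullback u (Spec.map (CommRingCat.ofHom (Algebra.TensorProduct.map F (AlgHom.id _ _)).toRingHom)) fT φ := by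
      intro W WT f pW fT hWT _ _ F hFeq
      have h1 := isPullback_specTensor (R' := Γ(T, Ta)) F
      rw [show CommRingCat.ofHom F.toRingHom = f.appLE U (f ⁻¹ᵁ U) le_rfl from CommRingCat.hom_ext hFeq] at h1
      have h2 := h1.paste_horiz (isPullback_fromSpec f hU)
      rw [← hφP] at h2
      refine ⟨hWT.lift _ _ (h2.w.trans (Category.assoc _ _ _).symm), hWT.lift_fst _ _ _, IsPullback.of_right ?_ (hWT.lift_snd _ _ _) hWT⟩
      rw [hWT.lift_fst]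
      exact h2
    obtain ⟨uX, huX, hu⟩ := mkLeg hXT α rfl
    obtain ⟨vY, hvY, hv⟩ := mkLeg hYT β rfl
    have hwc : (Spec.map (CommRingCat.ofHom (Algebra.TensorProduct.includeLeftRingHom :
        Γ(Z, i ⁻¹ᵁ a ⁻¹ᵁ U) →+* Γ(Z, i ⁻¹ᵁ a ⁻¹ᵁ U) ⊗[Γ(S, Sa)] Γ(T, Ta))) ≫ ((hU.preimage a).preimage i).fromSpec) ≫ i =
        (Spec.map (CommRingCat.ofHom (Algebra.TensorProduct.map p (AlgHom.id Γ(S, Sa) Γ(T, Ta))).toRingHom) ≫ uX) ≫ pX := by
      rw [Category.assoc, Category.assoc, huX, ← (hU.preimage a).SpecMap_appLE_fromSpec i ((hU.preimage a).preimage i) le_rfl,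
        ← Spec.map_comp_assoc, ← Spec.map_comp_assoc]
      congr 1
    let w := hZT.lift _ _ hwc
    have hw₁ : w ≫ iT = Spec.map (CommRingCat.ofHom (Algebra.TensorProduct.map p (AlgHom.id _ _)).toRingHom) ≫ uX :=
      hZT.lift_snd _ _ _
    have hw₂ : w ≫ jT = Spec.map (CommRingCat.ofHom (Algebra.TensorProduct.map q (AlgHom.id _ _)).toRingHom) ≫ vY := by
      refine hYT.hom_ext ?_ ?_
      · rw [Category.assoc, hj₁, ← Category.assoc, hZT.lift_fst, Category.assoc, Category.assoc, hvY,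
          ← (hU.preimage b).SpecMap_appLE_fromSpec j ((hU.preimage a).preimage i) c.eq.le, ← Spec.map_comp_assoc,
          ← Spec.map_comp_assoc]
        congr 1
      · rw [Category.assoc, ← hj₂, reassoc_of% hw₁, hu.w, Category.assoc, hv.w, ← Spec.map_comp_assoc,
          ← Spec.map_comp_assoc]
        congr 2
        exact CommRingCat.hom_ext (RingHom.ext hM.comm)
    refine ⟨⟨_, _, _, _, _, _, _, _, hM, φ, uX, vY, w, hw₁, hw₂, hu, hv⟩, ?_⟩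
    have hr : hPT.isoPullback.hom x ∈ Set.range m := by
      rw [Scheme.Pullback.range_map]
      refine ⟨?_, ?_⟩
      · rw [Set.mem_preimage, ← Scheme.Hom.comp_apply, IsPullback.isoPullback_hom_fst, hU.range_fromSpec]; exact hxU
      · rw [Set.mem_preimage, ← Scheme.Hom.comp_apply, IsPullback.isoPullback_hom_snd, hTa.range_fromSpec]; exact hxT
    obtain ⟨y, hy⟩ := hr
    refine ⟨hsq.isoPullback.inv y, ?_⟩
    show (hsq.isoPullback.inv ≫ φ) y = x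
    rw [Iso.inv_hom_id_assoc]
    show hPT.isoPullback.inv (m y) = x
    rw [hy]
    exact congr($(hPT.isoPullback.hom_inv_id) x)
  choose M hM using key
  exact isPushout_of_models hj₂ M (fun x => ⟨x, hM x⟩)

/-- Base change of a pushout along a closed immersion with affine legs. -/
theorem isPushout_baseChange (h : IsPushout i j a b) (hY : ∀ y : Y, ∃ c : Chart i j, y ∈ c.V) [IsAffineHom a]
    {S T PT XT YT ZT : Scheme.{u}} (sP : P ⟶ S) (g : T ⟶ S) (hf : Flat ((i ≫ a) ≫ sP) ∨ Flat g)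
    {pP : PT ⟶ P} {sT : PT ⟶ T} (hPT : IsPullback pP sT sP g)
    {pX : XT ⟶ X} {aT : XT ⟶ PT} (hXT : IsPullback pX aT a pP)
    {pY : YT ⟶ Y} {bT : YT ⟶ PT} (hYT : IsPullback pY bT b pP)
    {pZ : ZT ⟶ Z} {iT : ZT ⟶ XT} (hZT : IsPullback pZ iT i pX)
    {jT : ZT ⟶ YT} (hj₁ : jT ≫ pY = pZ ≫ j) (hj₂ : iT ≫ aT = jT ≫ bT) : IsPushout iT jT aT bT :=
  haveI := isClosedImmersion_inr h hY
  isPushout_baseChange_core h hY sP g (Or.inl hf) hPT hXT hYT hZT hj₁ hj₂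

end RingPO

namespace RingPO

theorem isPullback_map_square {W P S T : Scheme.{u}} {f : W ⟶ P} {q : P ⟶ S} {k : W ⟶ S} (hk : f ≫ q = k)
    (g : T ⟶ S) {m : pullback k g ⟶ pullback q g} (h₁ : m ≫ pullback.fst q g = pullback.fst k g ≫ f)
    (h₂ : m ≫ pullback.snd q g = pullback.snd k g) :
    IsPullback (pullback.fst k g) m f (pullback.fst q g) := by
  refine IsPullback.of_bot ?_ h₁.symm (IsPullback.of_hasPullback q g)
  rw [h₂, hk]
  exact IsPullback.of_hasPullback k g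

theorem flat_of_isPushout {X Y Z P S : Scheme.{u}} {i : Z ⟶ X} {j : Z ⟶ Y} {a : X ⟶ P} {b : Y ⟶ P}
    [IsClosedImmersion i] (h : IsPushout i j a b) (hY : ∀ y : Y, ∃ c : Chart i j, y ∈ c.V) [IsAffineHom a]
    (sP : P ⟶ S) [Flat ((i ≫ a) ≫ sP)] [Flat (a ≫ sP)] [Flat (b ≫ sP)] : Flat sP := by
  haveI := isClosedImmersion_inr h hY
  refine (HasRingHomProperty.iff_appLE (P := @Flat) (f := sP)).mpr fun Sa U eS => ?_
  have hF := isFibreProd_of_affineOpen h hY U.2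
  set c := chartOver h U.2
  letI : Algebra Γ(S, Sa) Γ(P, U) := (sP.appLE Sa U eS).hom.toAlgebra
  letI : Algebra Γ(S, Sa) Γ(X, a ⁻¹ᵁ U) := ((a.appLE U (a ⁻¹ᵁ U.1) le_rfl).hom.comp (sP.appLE Sa U eS).hom).toAlgebra
  letI : Algebra Γ(S, Sa) Γ(Y, b ⁻¹ᵁ U) := ((b.appLE U (b ⁻¹ᵁ U.1) le_rfl).hom.comp (sP.appLE Sa U eS).hom).toAlgebra
  letI : Algebra Γ(S, Sa) Γ(Z, i ⁻¹ᵁ a ⁻¹ᵁ U) :=
    (c.p.comp ((a.appLE U (a ⁻¹ᵁ U.1) le_rfl).hom.comp (sP.appLE Sa U eS).hom)).toAlgebra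
  let α : Γ(P, U) →ₐ[Γ(S, Sa)] Γ(X, a ⁻¹ᵁ U) := { (a.appLE U (a ⁻¹ᵁ U.1) le_rfl).hom with commutes' := fun _ => rfl }
  let β : Γ(P, U) →ₐ[Γ(S, Sa)] Γ(Y, b ⁻¹ᵁ U) := { (b.appLE U (b ⁻¹ᵁ U.1) le_rfl).hom with commutes' := fun _ => rfl }
  let p : Γ(X, a ⁻¹ᵁ U) →ₐ[Γ(S, Sa)] Γ(Z, i ⁻¹ᵁ a ⁻¹ᵁ U) := { c.p with commutes' := fun _ => rfl }
  let q : Γ(Y, b ⁻¹ᵁ U) →ₐ[Γ(S, Sa)] Γ(Z, i ⁻¹ᵁ a ⁻¹ᵁ U) := { c.q with commutes' := fun r => (hF.comm _).symm }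
  have hF' : IsFibreProd p.toRingHom q.toRingHom α.toRingHom β.toRingHom := hF
  haveI : Module.Flat Γ(S, Sa) Γ(X, a ⁻¹ᵁ U) := by
    have h1 := HasRingHomProperty.appLE @Flat (a ≫ sP) inferInstance Sa ⟨_, U.2.preimage a⟩ (fun z hz => eS hz)
    rw [← Scheme.Hom.appLE_comp_appLE a sP Sa.1 U.1 (a ⁻¹ᵁ U.1) eS le_rfl] at h1
    exact h1
  haveI : Module.Flat Γ(S, Sa) Γ(Y, b ⁻¹ᵁ U) := by
    have h1 := HasRingHomProperty.appLE @Flat (b ≫ sP) inferInstance Sa ⟨_, U.2.preimage b⟩ (fun z hz => eS hz)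
    rw [← Scheme.Hom.appLE_comp_appLE b sP Sa.1 U.1 (b ⁻¹ᵁ U.1) eS le_rfl] at h1
    exact h1
  haveI : Module.Flat Γ(S, Sa) Γ(Z, i ⁻¹ᵁ a ⁻¹ᵁ U) := by
    have h1 := HasRingHomProperty.appLE @Flat ((i ≫ a) ≫ sP) inferInstance Sa ⟨_, (U.2.preimage a).preimage i⟩
      (fun z hz => eS hz)
    rw [← Scheme.Hom.appLE_comp_appLE (i ≫ a) sP Sa.1 U.1 (i ⁻¹ᵁ a ⁻¹ᵁ U.1) eS le_rfl,
      ← Scheme.Hom.appLE_comp_appLE i a U.1 (a ⁻¹ᵁ U.1) (i ⁻¹ᵁ a ⁻¹ᵁ U.1) le_rfl le_rfl] at h1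
    exact h1
  exact hF'.flat

end RingPO
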