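import Mathlib

universe u
set_option autoImplicit false
set_option backward.isDefEq.respectTransparency false
set_option linter.style.haveILetI false
set_option linter.unusedVariables false
open AlgebraicGeometry CategoryTheory CategoryTheory.Limits TopologicalSpace Opposite TensorProduct

namespace RingPO

/-- A flat base change of a module flat over the ground ring is flat over the ground ring. -/
theorem flat_baseChange_left {R B B' M : Type u} [CommRing R] [CommRing B] [CommRing B'] [Algebra R B]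
    [Algebra R B'] [Algebra B B'] [IsScalarTower R B B'] [AddCommGroup M] [Module B M] [Module R M]
    [IsScalarTower R B M] [Module.Flat B B'] [Module.Flat R M] : Module.Flat R (B' ⊗[B] M) := by
  refine Module.Flat.iff_lTensor_preserves_injective_linearMap.mpr fun N N' _ _ _ _ f hf => ?_
  let e (K : Type u) [AddCommGroup K] [Module R K] := AlgebraTensorModule.assoc R B B B' M K
  let g : M ⊗[R] N →ₗ[B] M ⊗[R] N' := AlgebraTensorModule.lTensor B M f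
  have hg : Function.Injective g := Module.Flat.lTensor_preserves_injective_linearMap f hf
  have hg' : Function.Injective (g.lTensor B') := Module.Flat.lTensor_preserves_injective_linearMap g hg
  have key : ∀ z : (B' ⊗[B] M) ⊗[R] N, e N' (f.lTensor _ z) = g.lTensor B' (e N z) := fun z => by
    induction z using TensorProduct.induction_on with
    | zero => simp
    | tmul x n =>
      induction x using TensorProduct.induction_on with
      | zero => simp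
      | tmul b m => rfl
      | add x y hx hy => simp only [TensorProduct.add_tmul, map_add, hx, hy]
    | add x y hx hy => simp only [map_add, hx, hy]
  exact fun z z' hz => (e N).injective (hg' (by rw [← key, ← key, hz]))

/-- Flatness over the ground ring of a cokernel is stable under flat base change. -/
theorem flat_coker_of_isPushout {R B B' C C' : Type u} [CommRing R] [CommRing B] [CommRing B'] [CommRing C]
    [CommRing C'] [Algebra R B] [Algebra R B'] [Algebra R C] [Algebra R C'] [Algebra B B'] [Algebra B C]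
    [Algebra B C'] [Algebra B' C'] [Algebra C C'] [IsScalarTower B B' C'] [IsScalarTower B C C']
    [IsScalarTower R B B'] [IsScalarTower R B C] [IsScalarTower R B' C']
    [Algebra.IsPushout B B' C C'] [Module.Flat B B']
    (h : Module.Flat R (C ⧸ Submodule.span R (Set.range (algebraMap B C)))) :
    Module.Flat R (C' ⧸ Submodule.span R (Set.range (algebraMap B' C'))) := by
  let N : Submodule B C := LinearMap.range (Algebra.linearMap B C)
  let N' : Submodule B' C' := LinearMap.range (Algebra.linearMap B' C')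
  have hN : Submodule.span R (Set.range (algebraMap B C)) = N.restrictScalars R :=
    Submodule.span_eq (N.restrictScalars R)
  have hN' : Submodule.span R (Set.range (algebraMap B' C')) = N'.restrictScalars R :=
    Submodule.span_eq (N'.restrictScalars R)
  rw [hN] at h
  haveI : Module.Flat R (C ⧸ N) := Module.Flat.of_linearEquiv (Submodule.Quotient.restrictScalarsEquiv R N).symm
  haveI := flat_baseChange_left (R := R) (B := B) (B' := B') (M := C ⧸ N)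
  let ε := Algebra.IsPushout.equiv B B' C C'
  let π : C' →ₗ[B'] B' ⊗[B] (C ⧸ N) := AlgebraTensorModule.lTensor B' B' N.mkQ ∘ₗ ε.symm.toLinearMap
  have hs : Function.Surjective π :=
    (LinearMap.lTensor_surjective B' N.mkQ_surjective).comp ε.symm.surjective
  have hk : LinearMap.ker π = N' := by
    refine le_antisymm (fun x hx => ?_) ?_
    · have hex := lTensor_exact B' (f := N.subtype) (g := N.mkQ) (LinearMap.exact_subtype_mkQ N) N.mkQ_surjective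
      obtain ⟨w, hw⟩ := (hex (ε.symm x)).mp hx
      rw [show x = ε (N.subtype.lTensor B' w) by rw [hw]; simp]
      clear hw hx
      induction w using TensorProduct.induction_on with
      | zero => simp
      | tmul b y =>
        obtain ⟨c, hc⟩ := y.2
        refine ⟨b * algebraMap B B' c, ?_⟩
        show algebraMap B' C' _ = ε (b ⊗ₜ (y : C))
        rw [← hc, Algebra.IsPushout.equiv_tmul, map_mul, Algebra.linearMap_apply,
          ← IsScalarTower.algebraMap_apply, ← IsScalarTower.algebraMap_apply]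
      | add p q hp hq => rw [map_add, map_add]; exact N'.add_mem hp hq
    · rintro _ ⟨b, rfl⟩
      show N.mkQ.lTensor B' (ε.symm (algebraMap B' C' b)) = 0
      rw [Algebra.IsPushout.equiv_symm_algebraMap_left]
      show b ⊗ₜ[B] N.mkQ (1 : C) = 0
      rw [show N.mkQ (1 : C) = 0 from (Submodule.Quotient.mk_eq_zero N).2 ⟨1, (algebraMap B C).map_one⟩, TensorProduct.tmul_zero]
  haveI : Module.Flat R (C' ⧸ N') :=
    Module.Flat.of_linearEquiv (((Submodule.quotEquivOfEq _ _ hk).symm ≪≫ₗ π.quotKerEquivOfSurjective hs).restrictScalars R)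
  rw [hN']
  exact Module.Flat.of_linearEquiv (Submodule.Quotient.restrictScalarsEquiv R N')

/-- For affine `ξ : Z ⟶ T`, flatness over `S` of the cokernel of `ξ` on sections passes to smaller affine opens. -/
theorem cokerFlat_restrict {Z T S : Scheme.{u}} (ξ : Z ⟶ T) [IsAffineHom ξ] (t : T ⟶ S) {Sa : S.Opens}
    {V₀ V : T.Opens} (hV₀ : IsAffineOpen V₀) (hV : IsAffineOpen V) (e₀ : V₀ ≤ t ⁻¹ᵁ Sa) (e : V ≤ V₀)
    {W : Z.Opens} (hW : W = ξ ⁻¹ᵁ V) (e₁ : W ≤ (ξ ≫ t) ⁻¹ᵁ Sa)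
    (h : letI := ((ξ ≫ t).appLE Sa (ξ ⁻¹ᵁ V₀) (fun z hz => e₀ hz)).hom.toAlgebra
      Module.Flat Γ(S, Sa) (Γ(Z, ξ ⁻¹ᵁ V₀) ⧸ Submodule.span Γ(S, Sa) (Set.range (ξ.app V₀).hom))) :
    letI := ((ξ ≫ t).appLE Sa W e₁).hom.toAlgebra
    Module.Flat Γ(S, Sa) (Γ(Z, W) ⧸ Submodule.span Γ(S, Sa) (Set.range (ξ.appLE V W hW.le).hom)) := by
  subst hW
  have hst : ξ ⁻¹ᵁ V ≤ ξ ⁻¹ᵁ V₀ := ξ.preimage_mono e
  have H : IsPullback (𝟙 Z) ξ ξ (𝟙 T) := IsPullback.of_horiz_isIso ⟨by simp⟩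
  have hiso := isIso_pushoutSection_of_isAffineOpen H (US := V₀) (UT := V) (UX := ξ ⁻¹ᵁ V₀) (UY := ξ ⁻¹ᵁ V)
    (by simpa using e) le_rfl (by simp [inf_eq_right.mpr hst]) hV₀ hV (hV₀.preimage ξ)
  rw [isIso_pushoutSection_iff] at hiso
  letI := ((ξ ≫ t).appLE Sa (ξ ⁻¹ᵁ V₀) (fun z hz => e₀ hz)).hom.toAlgebra
  letI := ((ξ ≫ t).appLE Sa (ξ ⁻¹ᵁ V) e₁).hom.toAlgebra
  letI : Algebra Γ(S, Sa) Γ(T, V₀) := (t.appLE Sa V₀ e₀).hom.toAlgebra
  letI : Algebra Γ(S, Sa) Γ(T, V) := (t.appLE Sa V (e.trans e₀)).hom.toAlgebra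
  letI : Algebra Γ(T, V₀) Γ(T, V) := ((𝟙 T : T ⟶ T).appLE V₀ V (by simpa using e)).hom.toAlgebra
  letI : Algebra Γ(T, V₀) Γ(Z, ξ ⁻¹ᵁ V₀) := (ξ.appLE V₀ (ξ ⁻¹ᵁ V₀) le_rfl).hom.toAlgebra
  letI : Algebra Γ(T, V) Γ(Z, ξ ⁻¹ᵁ V) := (ξ.appLE V (ξ ⁻¹ᵁ V) le_rfl).hom.toAlgebra
  letI : Algebra Γ(Z, ξ ⁻¹ᵁ V₀) Γ(Z, ξ ⁻¹ᵁ V) :=
    ((𝟙 Z : Z ⟶ Z).appLE (ξ ⁻¹ᵁ V₀) (ξ ⁻¹ᵁ V) (by simpa using hst)).hom.toAlgebra
  letI : Algebra Γ(T, V₀) Γ(Z, ξ ⁻¹ᵁ V) := (ξ.appLE V₀ (ξ ⁻¹ᵁ V) hst).hom.toAlgebra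
  have w1 : (𝟙 T : T ⟶ T).appLE V₀ V (by simpa using e) ≫ ξ.appLE V (ξ ⁻¹ᵁ V) le_rfl = ξ.appLE V₀ (ξ ⁻¹ᵁ V) hst := by
    simp [Scheme.Hom.appLE_comp_appLE]
  have w2 : ξ.appLE V₀ (ξ ⁻¹ᵁ V₀) le_rfl ≫ (𝟙 Z : Z ⟶ Z).appLE (ξ ⁻¹ᵁ V₀) (ξ ⁻¹ᵁ V) (by simpa using hst) =
      ξ.appLE V₀ (ξ ⁻¹ᵁ V) hst := by
    simp [Scheme.Hom.appLE_comp_appLE]
  haveI : IsScalarTower Γ(T, V₀) Γ(T, V) Γ(Z, ξ ⁻¹ᵁ V) := .of_algebraMap_eq fun r => congr($(w1.symm).hom r)
  haveI : IsScalarTower Γ(T, V₀) Γ(Z, ξ ⁻¹ᵁ V₀) Γ(Z, ξ ⁻¹ᵁ V) := .of_algebraMap_eq fun r => congr($(w2.symm).hom r)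
  have c1 : t.appLE Sa V₀ e₀ ≫ (𝟙 T : T ⟶ T).appLE V₀ V (by simpa using e) = t.appLE Sa V (e.trans e₀) := by
    simp [Scheme.Hom.appLE_comp_appLE]
  have c2 : t.appLE Sa V₀ e₀ ≫ ξ.appLE V₀ (ξ ⁻¹ᵁ V₀) le_rfl = (ξ ≫ t).appLE Sa (ξ ⁻¹ᵁ V₀) (fun z hz => e₀ hz) := by
    rw [Scheme.Hom.appLE_comp_appLE]
  have c3 : t.appLE Sa V (e.trans e₀) ≫ ξ.appLE V (ξ ⁻¹ᵁ V) le_rfl = (ξ ≫ t).appLE Sa (ξ ⁻¹ᵁ V) e₁ := by
    rw [Scheme.Hom.appLE_comp_appLE]
  haveI : IsScalarTower Γ(S, Sa) Γ(T, V₀) Γ(T, V) := .of_algebraMap_eq fun r => congr($(c1.symm).hom r)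
  haveI : IsScalarTower Γ(S, Sa) Γ(T, V₀) Γ(Z, ξ ⁻¹ᵁ V₀) := .of_algebraMap_eq fun r => congr($(c2.symm).hom r)
  haveI : IsScalarTower Γ(S, Sa) Γ(T, V) Γ(Z, ξ ⁻¹ᵁ V) := .of_algebraMap_eq fun r => congr($(c3.symm).hom r)
  haveI : Algebra.IsPushout Γ(T, V₀) Γ(T, V) Γ(Z, ξ ⁻¹ᵁ V₀) Γ(Z, ξ ⁻¹ᵁ V) :=
    CommRingCat.isPushout_iff_isPushout.mp hiso.flip
  haveI : Module.Flat Γ(T, V₀) Γ(T, V) := (𝟙 T : T ⟶ T).flat_appLE hV₀ hV _
  refine flat_coker_of_isPushout (B := Γ(T, V₀)) (B' := Γ(T, V)) (C := Γ(Z, ξ ⁻¹ᵁ V₀)) ?_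
  rw [show (algebraMap Γ(T, V₀) Γ(Z, ξ ⁻¹ᵁ V₀)) = (ξ.app V₀).hom by
    rw [RingHom.algebraMap_toAlgebra, Scheme.Hom.app_eq_appLE]]
  exact h

end RingPO
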